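import Mathlib
import Cfsg.Prelude.Def_GeometricClasses
import Cfsg.Agent.Helper3.OC2.Defs
import Cfsg.Agent.Helper12.OrthGenB
import Cfsg.Agent.Helper28.Spin10
import Cfsg.Agent.Helper28.NonMax

set_option autoImplicit false
set_option linter.unusedSectionVars false
set_option linter.unusedVariables false

/-! # S5694, case `k = 2` with anisotropic blocks (`O_2^-(q) wr S_t` in `Ω_{2t}^-(q)`, `t ≥ 7`, `q ≠ 3`)
(designer helper7): definitions.

Block model of helper3 (`Cfsg.Agent.OC2P`: `Qblk`, `Dblk`, `binj`, `bproj`) on the index type `Fin t × Fin 2`.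
`Q` is a `QuadraticForm` on `Fin t × Fin 2 → F` which is the orthogonal sum of `t` copies of the anisotropic
binary form `q` (`BM Q q`). Everything happens inside the isometry group `OG Q` with helper28's reflections `reflO`,
Siegel elements `siegO`, `S Q` (the group they generate, `= Ω`), and helper12's `Rad H u`. -/

namespace Cfsg.Agent.K2M

open Matrix Cfsg.Agent.OC2P Cfsg.Agent.Helper28.Sg Cfsg.Agent.Helper28.Spin
  Cfsg.Agent.Helper12.OrthGen

variable {F : Type*} [Field F] {t : ℕ}

/-- the isometry group -/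
abbrev OG (Q : QuadraticForm F (Fin t × Fin 2 → F)) : Type _ := ↥(Cfsg.isometryGroup F ⇑Q)

/-- block model data: `Q` is the orthogonal sum of `t` copies of the anisotropic nondegenerate binary form `q` -/
structure BM (Q : QuadraticForm F (Fin t × Fin 2 → F)) (q : QuadraticForm F (Fin 2 → F)) : Prop where
  sum : ∀ x, Q x = ∑ i : Fin t, q (bproj i x)
  aniso : ∀ y, q y = 0 → y = 0
  ndQ : (QuadraticMap.polarBilin Q).Nondegenerate
  ndq : (QuadraticMap.polarBilin q).Nondegenerate

/-- `x` lies in one block -/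
def IsBlk (x : Fin t × Fin 2 → F) : Prop := ∃ i : Fin t, x ∈ Dblk F t 2 i

/-- the support of `x` is contained in `I` -/
def SuppIn (I : Finset (Fin t)) (x : Fin t × Fin 2 → F) : Prop := ∀ i, i ∉ I → bproj i x = 0

variable (Q : QuadraticForm F (Fin t × Fin 2 → F))

/-- the isometry `g` permutes the blocks -/
def StabD (g : OG Q) : Prop :=
  (g : GL (Fin t × Fin 2) F) ∈ Cfsg.Geo.decompositionStabilizer (Dblk F t 2)

variable {Q}

/-- `H` contains `M ∩ Ω` -/
def HasMO (H : Subgroup (OG Q)) : Prop := ∀ s ∈ Cfsg.Omega F ⇑Q, StabD Q s → s ∈ H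

/-- property (P): the elements of `H` fixing a nonsingular block vector permute the blocks -/
def PropP (H : Subgroup (OG Q)) : Prop :=
  ∀ x ∈ H, (∃ v : Fin t × Fin 2 → F, IsBlk v ∧ Q v ≠ 0 ∧ mt Q x *ᵥ v = v) → StabD Q x

/-- `a` is `H`-related to a block vector: `r_a r_b ∈ H` for a block vector `b` of the same norm -/
def InA (H : Subgroup (OG Q)) (a : Fin t × Fin 2 → F) : Prop :=
  ∃ (b : Fin t × Fin 2 → F) (ha : Q a ≠ 0) (hb : Q b ≠ 0), IsBlk b ∧ Q a = Q b ∧
    reflO Q a ha * reflO Q b hb ∈ H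

end Cfsg.Agent.K2M
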