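import Mathlib
import Cfsg.Agent.Helper7.K2M.Defs

set_option autoImplicit false
set_option linter.unusedSectionVars false
set_option linter.unusedVariables false

/-! # S5694, `k = 2` minus blocks: the output of chapter SIEGEL / input of chapter SPREAD -/

namespace Cfsg.Agent.K2M

open Matrix Cfsg.Agent.OC2P Cfsg.Agent.Helper28.Sg Cfsg.Agent.Helper28.Spin
  Cfsg.Agent.Helper12.OrthGen

variable {F : Type*} [Field F] {t : ℕ} {Q : QuadraticForm F (Fin t × Fin 2 → F)}

/-- `H` contains a Siegel element `E(z, w)`, `z ≠ 0` singular with support in at most four blocks, `w` with a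
nonzero component off the support of `z` -/
def SiegOut (H : Subgroup (OG Q)) : Prop :=
  ∃ (z w : Fin t × Fin 2 → F) (hz : Q z = 0) (I : Finset (Fin t)) (p : Fin t),
    z ≠ 0 ∧ I.card ≤ 4 ∧ SuppIn I z ∧ p ∉ I ∧ w ∈ Rad H z hz ∧ bproj p w ≠ 0

/-- linear independence of two vectors, elementary form -/
def Indep2 {V : Type*} [AddCommGroup V] [Module F V] (y y' : V) : Prop :=
  ∀ a b : F, a • y + b • y' = 0 → a = 0 ∧ b = 0

end Cfsg.Agent.K2M
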