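import Mathlib
import Cfsg.Agent.Helper7.K2M.Defs2
import Cfsg.Agent.Helper28.OrthMax3
import Cfsg.Agent.Helper17.OC2TBLKND
import Cfsg.Agent.Helper18.K2MANISO
import Cfsg.Agent.Helper5.K2MPROPER
import Cfsg.Agent.Helper7.K2MSIEGEL
import Cfsg.Agent.Helper27.K2MINV
import Cfsg.Agent.Helper13.K2MSPREAD

set_option autoImplicit false
set_option linter.unusedSectionVars false
set_option linter.unusedVariables false

/-! # S5694, `k = 2` minus blocks: assembly -/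

namespace Cfsg.Agent.K2M

open Matrix Cfsg.Agent.OC2P Cfsg.Agent.Helper28.Sg Cfsg.Agent.Helper28.Spin
  Cfsg.Agent.Helper12.OrthGen

variable {F : Type*} [Field F] [Fintype F] {t : ℕ} {Q : QuadraticForm F (Fin t × Fin 2 → F)}
  {q : QuadraticForm F (Fin 2 → F)}

/-- **the main dichotomy** -/
theorem MAIN.S_le (bm : BM Q q) (ht : 7 ≤ t) (hF : Fintype.card F ≠ 3) (H : Subgroup (OG Q))
    (hH : HasMO H) {g : OG Q} (hg : g ∈ H) (hgN : ¬ StabD Q g) : S Q ≤ H := by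
  by_cases hP : PropP H
  · exact absurd (INV.main bm ht hF hH hP hg) hgN
  · obtain ⟨z, w, hz, I, p, hz0, hI, hzI, hp, hw, hwp⟩ := SIEGEL.main bm ht hF hH hP
    exact SPREAD.main bm ht hH hz I p hz0 hI hzI hp hw hwp

/-- **S5694, `k = 2`** in the block model -/
theorem FINAL.maximal (t : ℕ) (q₀ : (Fin 2 → F) → F) (hq : Cfsg.Geo.IsNondegenerateQuadraticForm q₀)
    (ht : 7 ≤ t) (hminus : ¬ Cfsg.Geo.IsPlusTypeOn q₀ ⊤) (hF : Fintype.card F ≠ 3) :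
    Cfsg.Geo.IsMaximalIn (Cfsg.Geo.omegaGL (Qblk t q₀))
      (Cfsg.Geo.decompositionStabilizer (Dblk F t 2) ⊓ Cfsg.Geo.omegaGL (Qblk t q₀)) := by
  classical
  have hQ : Cfsg.Geo.IsNondegenerateQuadraticForm (Qblk t q₀) := BLKND.main q₀ hq
  set Q' : QuadraticForm F (Fin t × Fin 2 → F) := Cfsg.Agent.Helper28.NM.ofFun (Qblk t q₀) hQ with hQ'def
  set q' : QuadraticForm F (Fin 2 → F) := Cfsg.Agent.Helper28.NM.ofFun q₀ hq with hq'def
  have hQ' : (QuadraticMap.polarBilin Q').Nondegenerate := Cfsg.Agent.Helper28.NM.ofFun_nondeg _ hQ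
  have bm : BM Q' q' :=
    ⟨fun x => rfl, fun y hy => ANISO.main q₀ hq hminus y hy, hQ',
      Cfsg.Agent.Helper28.NM.ofFun_nondeg _ hq⟩
  have hcard : Fintype.card (Fin t × Fin 2) = t * 2 := by
    rw [Fintype.card_prod, Fintype.card_fin, Fintype.card_fin]
  obtain ⟨fr⟩ := Cfsg.Agent.Helper28.OM.exists_frame3 hQ' (by rw [hcard]; omega)
  have hΩ : Cfsg.Omega F ⇑Q' = S Q' :=
    Omega_eq_S hQ' fr (Cfsg.Agent.Helper28.OM.hgen_all hQ' (by rw [hcard]; omega))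
  show Cfsg.Geo.IsMaximalIn (Cfsg.Geo.omegaGL ⇑Q')
    (Cfsg.Geo.decompositionStabilizer (Dblk F t 2) ⊓ Cfsg.Geo.omegaGL ⇑Q')
  refine ⟨lt_of_le_of_ne inf_le_right ?_, ?_⟩
  · intro heq
    obtain ⟨g, hgS, hgN⟩ := PROPER.main bm ht
    have h1 : ((g : OG Q') : GL (Fin t × Fin 2) F) ∈
        Cfsg.Geo.decompositionStabilizer (Dblk F t 2) ⊓ Cfsg.Geo.omegaGL ⇑Q' := by
      rw [heq]
      exact (Cfsg.Agent.Helper28.NM.mem_omegaGL_iff Q' _).mpr ⟨g, by rw [hΩ]; exact hgS, rfl⟩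
    exact hgN h1.1
  · intro M hHM hMΩ
    by_cases hMH : M ≤ Cfsg.Geo.decompositionStabilizer (Dblk F t 2) ⊓ Cfsg.Geo.omegaGL ⇑Q'
    · left; exact le_antisymm hMH hHM
    right
    refine le_antisymm hMΩ ?_
    obtain ⟨g, hgM, hgH⟩ := SetLike.not_le_iff_exists.mp hMH
    have hgΩ := hMΩ hgM
    obtain ⟨h, hhΩ, rfl⟩ := (Cfsg.Agent.Helper28.NM.mem_omegaGL_iff Q' g).mp hgΩ
    have hhN : ¬ StabD Q' h := fun hc => hgH ⟨hc, hgΩ⟩
    set M' : Subgroup (OG Q') := M.comap (Cfsg.isometryGroup F ⇑Q').subtype with hM'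
    have hM'H : HasMO M' := by
      intro s hs hsN
      show ((s : OG Q') : GL (Fin t × Fin 2) F) ∈ M
      apply hHM
      exact ⟨hsN, (Cfsg.Agent.Helper28.NM.mem_omegaGL_iff Q' _).mpr ⟨s, hs, rfl⟩⟩
    have hkey := MAIN.S_le bm ht hF M' hM'H (g := h) hgM hhN
    intro x hx
    obtain ⟨y, hyΩ, rfl⟩ := (Cfsg.Agent.Helper28.NM.mem_omegaGL_iff Q' x).mp hx
    rw [hΩ] at hyΩ
    exact hkey hyΩ

end Cfsg.Agent.K2M
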